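import Cfsg.Agent.Lib.MO.Deg
import Cfsg.Agent.Lib.MO.Wrap
import Cfsg.Agent.Lib.G23.Ord1
import Cfsg.Agent.Lib.Clifford.Gallagher

/-! Tools for the recognition of small simple groups by their order and character degree graph. -/

set_option autoImplicit false

namespace Cfsg.Lib.MO

open Subgroup Cfsg.Lib.Small Cfsg.Lib.CharDeg Cfsg.Lib.Transfer Cfsg.Lib.Comp Cfsg.Lib.G23
open Cfsg.Lib.Clifford Cfsg.Lib.Induce
open _root_.Cfsg.Lib.Char

variable {G S : Type*} [Group G] [Finite G] [Group S] [Finite S] {p q r N n B d : ℕ} {K : Subgroup G}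

theorem mem_degM : d ∈ degM G ↔ d ∈ cd G := by simp [degM, mem_cd]

theorem cd_of_primes (h : degreePrimes G = degreePrimes S) (hp : p.Prime) (h1 : ∃ d ∈ cd S, p ∣ d) :
    ∃ d ∈ cd G, p ∣ d := by
  simp only [mem_cd] at h1 ⊢
  exact (h.ge ⟨hp, h1⟩).2

theorem cd_of_graph (h : degreeGraph G = degreeGraph S) (hp : p.Prime) (hq : q.Prime) (h0 : p ≠ q)
    (h1 : ∃ d ∈ cd S, p * q ∣ d) : ∃ d ∈ cd G, p * q ∣ d := by
  simp only [mem_cd] at h1 ⊢
  exact (h.ge (show (degreeGraph S).Adj p q from ⟨h0, hp, hq, h1⟩)).2.2.2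

omit [Finite G] in
theorem index_center_dvd (K : Subgroup G) [K.Normal] :
    (center K).index ∣ (centralizer (K : Set G)).index :=
  centralizer_subgroupOf_self K ▸ relIndex_dvd_index_of_normal _ K

theorem simple_or (hG : Nat.card G = n) (hp : p.Prime) (hr : r.Prime) (h4 : ∃ d ∈ cd G, p ∣ d)
    (h3 : ∃ d ∈ cd G, r ∣ d) {L : List ℕ} (H : n < (B + 1) ^ 2 ∧ ¬ p * p ∣ n ∧ r ∣ N ∧ ¬ r * N ∣ n ∧
      ∀ d ∈ divs B n, (IsPrimePow d → d % p = 1 → d = N) ∧ (p ∣ d → excl B d = false → d = n ∨ d ∈ L)) :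
    IsSimpleGroup G ∨ ∃ K : Subgroup G, K.Normal ∧ IsQuasisimple K ∧ (center K).index ∈ L ∧
      ∀ H : Subgroup G, (∀ y, orderOf y = p → y ∈ H) → K ≤ H := by
  subst hG
  obtain ⟨h1, h2, h5, h6, h7⟩ := H
  replace h7 := fun d hd => h7 d (mem_divs Nat.card_pos.ne' h1 hd)
  obtain ⟨K, a, b, c, e⟩ := exists_qs hp hr h2 h4 (fun d hd => (h7 d hd).1) h5 h6 h3
  have := b.2
  have h8 := isQuasisimple_quotient_center_not_isMulCommutative b
  have h9 := (center K).index_dvd_card
  refine ((h7 _ (h9.trans (card_subgroup_dvd_card K))).2 c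
    (not_excl h8 (two_dvd_card_of_simple h8))).imp (fun f => ?_) fun f => ⟨K, a, b, f, e⟩
  have h10 := (center K).index_mul_card
  obtain rfl := eq_top_of_le_card K (f ▸ Nat.le_of_dvd Nat.card_pos h9)
  rw [f, card_top, mul_eq_left₀ Nat.card_pos.ne', card_eq_one] at h10
  have := isSimpleGroup_of_isQuasisimple b h10
  exact topEquiv.symm.isSimpleGroup

theorem degM_eq [IsSimpleGroup G] (hG : ¬ IsMulCommutative G) (hn : Nat.card G = n) (hp : p.Prime)
    {M : Multiset ℕ} (H : p ∣ n ∧ ¬ p ^ 2 ∣ n ∧ n < (B + 1) ^ 2 ∧ ∀ A ∈ cfgsX B n p (primes1 B n),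
      A.2.2.1 = 1 ∧ {1} + (A.2.2.2.2.map Int.natAbs : Multiset ℕ) +
        Multiset.replicate ((p - 1) / A.2.1) A.2.2.2.1.natAbs = M) :
    ∃ R : Multiset ℕ, (∀ d ∈ R, p ∣ d ∧ d ∈ cd G) ∧ degM G = M + R ∧
      (M.map (· ^ 2)).sum + (R.map (· ^ 2)).sum = n := by
  classical
  obtain ⟨x, e, t, c, S, Y, a, δ, θ, l, hx, h1, hθ, hc, hl, h3⟩ :=
    exists_mem_cfgsX hG hp hn H.1 H.2.1 H.2.2.1
  obtain ⟨rfl, rfl⟩ := H.2.2.2 _ h3
  obtain ⟨R, h4, h5⟩ := degM_of_pb h1 hθ hx (hc.trans (mul_one p)) hl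
  dsimp only
  rw [← h1.mul, Nat.mul_div_cancel_left _ h1.pos]
  exact ⟨R, fun d hd => ⟨h4 d hd, mem_degM.1 (h5 ▸ Multiset.mem_add.2 (.inr hd))⟩, h5, by
    rw [← Multiset.sum_add, ← Multiset.map_add, ← h5, degM_sq, hn]⟩

theorem index_inertia_le [K.Normal] {θ : K → ℂ} (hθ : IsIrrCharacter K θ) :
    (inertia K θ).index ≤ (degM K).count (charDegree θ) := by
  classical
  rw [degM, Multiset.count_map, ← Finset.filter_val, ← Finset.card_def, ← Nat.card_eq_finsetCard]
  exact Nat.card_le_card_of_injective (fun q => ⟨⟨_, isIrrCharacter_conjChar K hθ q.out⁻¹⟩,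
    Finset.mem_filter.2 ⟨Finset.mem_univ _, by simp [charDegree]⟩⟩) fun a b e => conjChar_out_injective K θ (congrArg (·.1.1) e)

theorem not_dvd_center (h : IsQuasisimple K) (hp : p.Prime) (h1 : ¬ p ^ 3 ∣ Nat.card K) :
    ¬ p ∣ Nat.card (center K) := fun h2 => by
  have := Fact.mk hp
  obtain ⟨x, hx, h3⟩ := exists_mem_orderOf_eq_prime hp h2
  obtain ⟨P, hP⟩ := (IsPGroup.of_card (G := zpowers x) (n := 1)
    (by rw [Nat.card_zpowers, h3, pow_one])).exists_le_sylow
  obtain ⟨k, hk⟩ := P.isPGroup'.exists_card_eq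
  have := isMulCommutative_of_card_dvd_sq (A := (P : Subgroup K)) (hk ▸ pow_dvd_pow p (not_lt.1 fun e =>
    h1 ((pow_dvd_pow p e).trans (hk ▸ card_subgroup_dvd_card _))))
  have h4 := center_inf_commutator_inf_sylow_le P
    ⟨⟨hx, isQuasisimple_commutator_eq_top h ▸ mem_top x⟩, hP (mem_zpowers x)⟩
  rw [commutator_eq_bot_iff_le_centralizer.2 (le_centralizer _), mem_bot] at h4
  exact hp.one_lt.ne (by simp [← h3, h4])

theorem no360 (hG : Nat.card G = 360) [K.Normal] (hK : IsQuasisimple K) (h : (center K).index = 60)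
    (h1 : ∃ d ∈ cd G, 2 * 5 ∣ d) (h2 : ¬ ∃ d ∈ cd G, 2 * 3 ∣ d) : False := by
  have := Fintype.ofFinite K
  have := Fintype.ofFinite G
  obtain ⟨_, h3, h4⟩ := h1
  obtain ⟨ψ, hψ, rfl⟩ := mem_cd'.1 h3
  obtain ⟨θ, hθ, h5⟩ := exists_irr_below K hψ
  obtain ⟨k, h6, h7⟩ := exists_charDegree_eq_mul K hψ hθ h5
  have c1 := (center K).index_mul_card
  have c2 := K.index_mul_card
  have c3 := not_dvd_center hK Nat.prime_three fun e =>
    absurd (e.trans (hG ▸ card_subgroup_dvd_card K)) (by decide)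
  have c4 := charDegree_sq_le_index_center hθ
  have c5 : K.index * Nat.card (center K) = 6 := by rw [← c1, h, hG] at c2; nlinarith
  have c6 : charDegree θ = 5 ∧ 2 ∣ k := by
    have := Nat.le_of_dvd (by decide) (h6.trans (Dvd.intro _ c5))
    have := h6.trans (Dvd.intro _ c5)
    have : charDegree θ < 8 := by nlinarith
    have := hθ.charDegree_pos
    rw [h7] at h4
    generalize charDegree θ = m at *
    interval_cases k <;> interval_cases m <;> omega
  have c7 : Nat.card (center K) = 1 := by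
    have := c6.2.trans h6
    have := Nat.le_of_dvd (by decide) (Dvd.intro_left _ c5)
    generalize Nat.card (center K) = z at *
    interval_cases z <;> omega
  rw [c7, mul_one] at c1 c5
  have := isSimpleGroup_of_isQuasisimple hK (card_eq_one.1 c7)
  obtain ⟨R, r1, r2, r3⟩ := degM_eq (B := 8) (M := {1, 4, 3, 3}) (isQuasisimple_not_isMulCommutative hK)
    (c1.symm.trans h) Nat.prime_five (by decide +kernel)
  have ex : ∀ θ, IsIrrCharacter K θ → (inertia K θ).index = 1 →
      ∃ χ, IsIrrCharacter G χ ∧ (fun n : K => χ n) = θ := fun θ hθ e => by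
    have := IsZGroup.of_squarefree (G := G ⧸ K) (by rw [← index_eq_card, c5]; decide +kernel)
    exact (exists_extension_of_sylow_cyclic K (fun p hp P => IsZGroup.isZGroup p hp.out P) hθ
      ((inertia_eq_top_iff K).1 (index_eq_one.1 e))).imp fun χ a => ⟨a.1, funext a.2⟩
  have dg : ∀ (β : G ⧸ K → ℂ) (χ : G → ℂ), IsIrrCharacter _ β → IsIrrCharacter G χ →
      charDegree ((fun g : G => β g) * χ) = charDegree β * charDegree fun n : K => χ n :=
    fun β χ a b => charDegree_eq_of_apply_one (by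
      rw [Pi.mul_apply, QuotientGroup.mk_one, a.apply_one_eq, b.apply_one_eq, Nat.cast_mul]; rfl)
  obtain ⟨φ, hφ, d3⟩ := mem_cd'.1 (mem_degM.1 (show 3 ∈ degM K by simp [r2]))
  obtain ⟨χ, a, rfl⟩ := ex φ hφ (by
    have h8 := index_inertia_le hφ
    rw [d3, r2, Multiset.count_add, Multiset.count_eq_zero.2 fun e => absurd (r1 _ e).1 (by decide)] at h8
    have h9 := (inertia K φ).index_ne_zero_of_finite
    by_contra h10
    obtain ⟨χ, a, b⟩ := exists_irr_above K hφ
    obtain ⟨e, he, -⟩ := exists_classInner_res_dvd_relIndex K a hφ b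
    refine h2 ⟨_, charDegree_mem_cd a, e, charDegree_eq_of_apply_one ?_⟩
    rw [clifford_degree K a hφ b, he, hφ.apply_one_eq, d3,
      show (inertia K φ).index = 2 by simp at h8; omega]
    push_cast; ring)
  obtain ⟨ξ, b, rfl⟩ := ex θ hθ (by
    have h8 := index_inertia_le hθ
    have h9 := (inertia K θ).index_ne_zero_of_finite
    have h10 := mt (fun e => sum_mono (· ^ 2) (A := [5, 5]) (Multiset.le_count_iff_replicate_le.1
      (show 2 ≤ R.count 5 from e))) (by simp at r3 ⊢; omega)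
    rw [c6.1, r2, Multiset.count_add] at h8
    simp at h8
    omega)
  obtain ⟨β, hβ, rfl⟩ := exists_inflate_mul_eq_of_over K b.isCharacter hθ hψ h5
  have h8 := charDegree_mem_cd (isIrrCharacter_inflate_mul K a.isCharacter hφ hβ)
  rw [dg β _ hβ a, d3] at h8
  rw [dg β _ hβ b, c6.1] at h4
  exact h2 ⟨_, h8, by omega⟩

theorem no_five [IsSimpleGroup G] (h : Nat.card G = 1800 ∨ Nat.card G = 2700 ∨ Nat.card G = 3600) :
    False := by
  have := Fact.mk Nat.prime_five
  have hG := not_isMulCommutative_of_simple (G := G) (by rcases h with h | h | h <;> rw [h] <;> norm_num)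
  have hP : ∀ P : Sylow 5 G, Nat.card P = 25 := fun P =>
    (card_sylow_eq 5 P (k := 2) (m := Nat.card G / 25) (by omega) (by omega)).1
  have hc := fun P => isMulCommutative_of_card_dvd_sq (p := 5) (hP P).dvd
  obtain ⟨P⟩ : Nonempty (Sylow 5 G) := inferInstance
  have h1 : Nat.card (Sylow 5 G) = 16 ∨ Nat.card (Sylow 5 G) = 36 :=
    (by decide +kernel : ∀ n ∈ [1800, 2700, 3600], ∀ m ∈ sylNums 61 n 5 25, m = 16 ∨ m = 36) _
      (by simpa using h) _ (mem_sylNums hG rfl (by omega) (by omega) P (hP P))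
  have h2 := card_sylow_mul_card_normalizer P
  obtain ⟨R, h3, h4⟩ := exists_sylow_relIndex_eq P (by rcases h1 with e | e <;> rw [e] <;> decide)
  have h5 : (P : Subgroup G) ⊓ R ≠ ⊥ := fun e => by
    rw [← inf_relIndex_left, e, relIndex_bot_left, hP] at h4
    omega
  have h6 := lt_index_of_simple (k := 9) hG rfl (by rcases h with h | h | h <;> rw [h] <;> decide)
    (normalizer_ne_top_of_simple h5 fun e => sylow_ne_top hG P (top_le_iff.1 (e.ge.trans inf_le_left)))
  have h7 : ∀ Q : Sylow 5 G, (P : Subgroup G) ⊓ R ≤ Q →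
      (Q : Subgroup G) ≤ centralizer ((P : Subgroup G) ⊓ R : Subgroup G) := fun Q hQ =>
    have := hc Q
    (Q : Subgroup G).le_centralizer.trans (centralizer_le hQ)
  have h8 := one_lt_card_sylow h3 (h7 P inf_le_left) (h7 R inf_le_right)
  have h9 := card_sylow_mul_card_inf (h7 P inf_le_left)
  obtain ⟨s, hs⟩ := hP P ▸ card_dvd_of_le (le_inf le_normalizer (h7 P inf_le_left))
  have a1 : (P : Subgroup G) ⊓ R ≤ P := inf_le_left
  generalize (P : Subgroup G) ⊓ R = D at *
  have h10 : Nat.card (Sylow 5 (centralizer (D : Set G))) % 5 = 1 := card_sylow_modEq_one 5 _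
  have h11 := (normalizer (D : Set G)).card_mul_index
  obtain ⟨t, ht⟩ := card_dvd_of_le (centralizer_le_normalizer (D : Set G))
  have h12 := fun e => card_sylow_dvd_of_two_mul (k := 2) (m := 3) e (by decide) (by decide) h8
  have h13 := card_dvd_of_le (inf_le_left : normalizer ((P : Subgroup G) : Set G) ⊓ centralizer (D : Set G) ≤ _)
  have h14 : t = 1 ∧ s = 2 ∧ Nat.card (normalizer ((P : Subgroup G) : Set G)) = 100 := by
    rw [hs] at h9 h13
    rw [ht, ← h9] at h11
    rw [← h9] at h12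
    generalize Nat.card (Sylow 5 (centralizer (D : Set G))) = j at *
    generalize (normalizer (D : Set G)).index = i at *
    have b1 : j * (s * t) ≤ 14 := by
      have := Nat.mul_le_mul_left (j * (s * t)) h6
      have : 25 * (j * (s * t) * i) = Nat.card G := by rw [← h11]; ring
      omega
    have b2 : s * t ≠ 0 := fun e => by rw [mul_assoc, mul_assoc, mul_assoc, ← mul_assoc s, e] at h11; omega
    have b3 := Nat.pos_of_ne_zero (left_ne_zero_of_mul b2)
    have b4 := Nat.pos_of_ne_zero (right_ne_zero_of_mul b2)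
    have b5 := (Nat.le_mul_of_pos_right j (Nat.pos_of_ne_zero b2)).trans b1
    have b6 : s * t ≤ 2 := by
      have := Nat.mul_le_mul_right (s * t) (show 6 ≤ j by omega)
      omega
    have b7 := (Nat.le_mul_of_pos_right s b4).trans b6
    have b8 := (Nat.le_mul_of_pos_left t b3).trans b6
    have : s = 2 := by
      by_contra e
      obtain rfl : s = 1 := by omega
      obtain rfl : j = 6 := by interval_cases j <;> interval_cases t <;> omega
      obtain ⟨j, a, b, c⟩ := h12 rfl
      have := Nat.le_of_dvd (by decide) c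
      interval_cases j <;> simp_all [Nat.ModEq]
    subst s
    rcases h1 with e | e <;> rw [e] at h2 <;> interval_cases j <;> interval_cases t <;> omega
  obtain ⟨rfl, rfl, h14⟩ := h14
  have h15 := eq_of_le_of_card_ge (centralizer_le_normalizer (D : Set G)) (ht.trans (mul_one _)).le
  have h16 := card_mul_relIndex (inf_le_left : normalizer ((P : Subgroup G) : Set G) ⊓ centralizer (D : Set G) ≤ _)
  rw [hs, h14, inf_relIndex_left] at h16
  replace h16 : ((centralizer (D : Set G)).subgroupOf (normalizer ((P : Subgroup G) : Set G))).index = 2 := by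
    unfold relIndex at h16; omega
  obtain ⟨u, hu⟩ := index_eq_two_iff.1 h16
  have m := fun a b => mul_mem_iff_of_index_two h16 (a := a) (b := b)
  have h17 : u ∉ (centralizer (D : Set G)).subgroupOf _ := by simpa [xor_comm] using hu 1
  refine h17 (mem_subgroupOf.2 (h15 ▸ mem_normalizer_of_conj_le (conj_le_iff.2 fun x hx => ?_)))
  have h18 := (mem_normalizer_iff.1 u.2 x).1 (a1 hx)
  have := hc P
  have h19 := (abelian_sylowIn_decomposition P.isPGroup' le_normalizer le_rfl
    (sylow_not_dvd_relIndex P le_normalizer)).2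
  rw [← commutator_inf_eq_of_abelian, commutator_eq_top_of_simple hG, top_inf_eq] at h19
  have c : ∀ g ∈ (centralizer (D : Set G)).subgroupOf (normalizer ((P : Subgroup G) : Set G)), x * g = g * x :=
    fun g hg => mem_centralizer_iff.1 hg x hx
  have h20 : ∀ g ∈ (centralizer (D : Set G)).subgroupOf (normalizer ((P : Subgroup G) : Set G)),
      g * (x * (u * x * (u : G)⁻¹)) = x * (u * x * (u : G)⁻¹) * g := fun g hg => by
    have h20 := c _ ((normal_of_index_eq_two h16).conj_mem' g hg u)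
    rw [← mul_assoc, ← c g hg, mul_assoc, mul_assoc x, mul_right_inj]
    calc _ = u * (((u⁻¹ * g * u :) : G) * x) * (u : G)⁻¹ := by push_cast; group
      _ = _ := by rw [← h20]; push_cast; group
  have h21 : x * (u * x * (u : G)⁻¹) = 1 := mem_bot.1 (h19.le ⟨mul_mem (a1 hx) h18,
    mem_centralizer_iff.2 fun g hg => by
      by_cases e : ⟨g, hg⟩ ∈ (centralizer (D : Set G)).subgroupOf (normalizer ((P : Subgroup G) : Set G))
      · exact h20 _ e
      have h21 := h20 _ ((m ⟨g, hg⟩ u⁻¹).2 (iff_of_false e (mt (inv_mem_iff.1) h17)))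
      have h22 := c _ ((m u u).2 Iff.rfl)
      have h23 := mem_centralizer_iff.1 ((P : Subgroup G).le_centralizer (a1 hx)) _ h18
      have h24 : (u : G) * (x * (u * x * (u : G)⁻¹)) = x * (u * x * (u : G)⁻¹) * u := by
        calc _ = u * x * (u : G)⁻¹ * (((u * u :) : G) * x) * (u : G)⁻¹ := by push_cast; group
          _ = u * x * (u : G)⁻¹ * x * u := by rw [← h22]; push_cast; group
          _ = _ := by rw [h23]
      calc g * _ = ((⟨g, hg⟩ * u⁻¹ :) : G) * (u * (x * (u * x * (u : G)⁻¹))) := by push_cast; group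
        _ = _ := by rw [h24, ← mul_assoc, h21]; push_cast; group⟩)
  exact eq_inv_of_mul_eq_one_right h21 ▸ inv_mem hx

theorem no_eleven [IsSimpleGroup G] (h : Nat.card G = 15840 ∨ Nat.card G = 47520) : False := by
  classical
  have hG := not_isMulCommutative_of_simple (G := G) (by rcases h with h | h <;> rw [h] <;> norm_num)
  obtain ⟨X, h1, -, ⟨K⟩⟩ := exists_bk (B := 310) hG Nat.prime_eleven rfl (by omega) (by omega) (by omega)
    (ok := (5 < ·)) (okc := fun _ => true) (fun χ e => decide_eq_true (by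
      have := deg_gt hG Nat.prime_eleven (by omega) (by omega)
        (by rcases h with h | h <;> rw [h] <;> decide) e
      omega)) fun _ _ _ _ => rfl
  obtain ⟨u, h6, h7⟩ := exists_u (G := G) (by omega)
  obtain ⟨_, -, -, d⟩ := sieve (B := 310) hG rfl (by omega) (by omega) h6 (.inl rfl) (kc := (· % 2 != 0))
    (by simpa [Nat.dvd_iff_mod_eq_zero] using h7) (fin := fun _ _ => false)
    (Os := [fun _ => cand 310 (Nat.card G) 11 (5 < ·) fun _ => true])
    (by rcases h with h | h <;> rw [h] <;> decide +kernel) [⟨X, K⟩] ⟨h1, trivial⟩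
  cases d

end Cfsg.Lib.MO
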