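import Cfsg.Agent.Lib.CharDeg.DerivedP
import Cfsg.Agent.Lib.Small.SylNum
import Cfsg.Agent.Lib.Small.SieveFT
import Cfsg.Agent.Lib.Comp.Quasisimple
import Cfsg.Agent.Lib.Mathieu.Conj
import Cfsg.Agent.Lib.Grp.Classes
import Cfsg.Prelude.Def_DegreeGraph

/-! Groups with a Sylow subgroup of prime order `p` and a character degree divisible by `p`. -/

set_option autoImplicit false

namespace Cfsg.Lib.MO

open Subgroup Cfsg.Lib.Small Cfsg.Lib.CharDeg Cfsg.Lib.Transfer Cfsg.Lib.Grp Cfsg.Lib.Comp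

variable {G : Type*} [Group G] [Finite G] {p r N : ℕ}

theorem cent_of_cd (hp : p.Prime) (hr : r.Prime) {L : Subgroup G} [L.Normal] (hL : ¬ p ∣ Nat.card L)
    (hx : ∀ d, d ∣ Nat.card L → IsPrimePow d → d % p = 1 → d = N) (h1 : r ∣ N)
    (h2 : ¬ r * N ∣ Nat.card G) (h3 : ∃ d ∈ cd G, r ∣ d) {y : G} (hy : orderOf y = p) :
    y ∈ centralizer (L : Set G) := by
  have := Fact.mk hp
  have := Fact.mk hr
  have c1 : Nat.card (zpowers y) = p ^ 1 := by rw [Nat.card_zpowers, hy, pow_one]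
  have hP := IsPGroup.of_card c1
  have hc := ((Nat.Prime.coprime_iff_not_dvd hp).2 hL).symm
  have hn : zpowers y ≤ normalizer (L : Set G) := le_normalizer_of_normal
  have centralizer_zpowers : centralizer (zpowers y : Set G) = centralizer {y} := by
    rw [zpowers_eq_closure, centralizer_closure]
  have e1 := ncard_cl_mul L y
  have e2 := card_mul_relIndex (inf_le_left : L ⊓ centralizer {y} ≤ L)
  rw [inf_relIndex_left, ← centralizer_zpowers] at e2
  have e3 := fun q hq => pow_factorization_modEq (q := q) hP hn hc hq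
  generalize hm : (centralizer (zpowers y : Set G)).relIndex L = m at e2 e3
  have e4 : m ∣ Nat.card L := Dvd.intro_left _ e2
  have m0 := (Nat.pos_of_dvd_of_pos e4 Nat.card_pos).ne'
  by_cases h4 : m = 1
  · have h5 := relIndex_eq_one.1 (hm.trans h4)
    exact mem_centralizer_iff.2 fun g hg => (mem_centralizer_iff.1 (h5 hg) y (mem_zpowers y)).symm
  have h5 : ∀ q, q.Prime → q ∣ m → q ^ m.factorization q = N := fun q hq h5 =>
    hx _ ((Nat.ordProj_dvd m q).trans e4) (hq.isPrimePow.pow (hq.factorization_pos_of_dvd m0 h5).ne')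
      (Eq.trans (e3 q hq) (Nat.mod_eq_of_lt hp.one_lt))
  have h6 : m = r ^ m.primeFactorsList.length := Nat.eq_prime_pow_of_unique_prime_dvd m0 fun hq h6 =>
    ((Nat.prime_dvd_prime_iff_eq hr hq).1 (hr.dvd_of_dvd_pow (h5 _ hq h6 ▸ h1))).symm
  generalize m.primeFactorsList.length = j at h6
  have h7 : m = N := by
    rw [← h5 r hr (h6 ▸ dvd_pow_self r fun e => h4 (by simp [h6, e])), h6, hr.factorization_pow,
      Finsupp.single_eq_same]
  subst h7
  obtain ⟨R, a1, a2, a3, a4⟩ := Coprime.exists_invariant_sylowIn (p := r) hn (c1 ▸ hc.symm.pow_left 1)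
    (.inl inferInstance)
  have c2 : Nat.card R = m := by
    obtain ⟨k, hk⟩ := a2.exists_card_eq
    have h8 : m ∣ Nat.card R := h6 ▸ (((Nat.Prime.coprime_iff_not_dvd hr).2 a3).pow_left j).dvd_of_dvd_mul_right
      (h6 ▸ card_mul_relIndex a1 ▸ e4)
    have h9 := card_subgroup_dvd_card R
    rw [hk, h6] at *
    refine congrArg _ (le_antisymm (not_lt.1 fun h10 => h2 ?_) ((Nat.pow_dvd_pow_iff_le_right hr.one_lt).1 h8))
    exact pow_succ' r j ▸ (pow_dvd_pow r h10).trans h9
  have c3 : ∀ A ≤ R, A ⊓ centralizer {y} = ⊥ := fun A hA => Core.eq_bot_of_isPGroup_of_coprime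
    (a2.to_le (inf_le_left.trans hA)) (Core.coprime_of_le (inf_le_inf_right _ (hA.trans a1))
      (Core.coprime_iff_not_dvd.2 fun e => h2 (((Nat.mul_dvd_mul_right e m).trans (by
        rw [← centralizer_zpowers]; exact e2.dvd)).trans (card_subgroup_dvd_card L))))
  have c4 : cl R y = cl L y := Set.eq_of_subset_of_ncard_le (fun _ ⟨k, hk, e⟩ => ⟨k, a1 hk, e⟩) <| by
    have h8 := ncard_cl_mul R y
    rw [c3 R le_rfl, card_bot, mul_one, c2] at h8
    rw [← centralizer_zpowers, ← e2, mul_comm] at e1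
    exact (Nat.eq_of_mul_eq_mul_left Nat.card_pos e1).le.trans h8.ge
  have c5 : cl R y = (· * y) '' R := Set.eq_of_subset_of_ncard_le (by
      rintro _ ⟨k, hk, rfl⟩
      exact ⟨k * (y * k⁻¹ * y⁻¹), mul_mem hk ((mem_normalizer_iff.1 (a4 (mem_zpowers y)) _).1 (inv_mem hk)),
        by simp [mul_assoc]⟩) <| by
    have h8 := ncard_cl_mul R y
    rw [c3 R le_rfl, card_bot, mul_one] at h8
    rw [h8, Set.ncard_image_of_injective _ (mul_left_injective y)]
    exact (Nat.card_coe_set_eq _).ge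
  have c6 : L ≤ normalizer (R : Set G) := fun g hg => mem_normalizer_of_conj_le (conj_le_iff.2 fun x hx => by
    obtain ⟨k, hk, e⟩ : x * y ∈ cl L y := c4 ▸ c5 ▸ ⟨x, hx, rfl⟩
    obtain ⟨a, ha, e1⟩ : g * k * y * (g * k)⁻¹ ∈ (· * y) '' R := c5 ▸ c4 ▸ ⟨_, mul_mem hg hk, rfl⟩
    obtain ⟨b, hb, e2⟩ : g * y * g⁻¹ ∈ (· * y) '' R := c5 ▸ c4 ▸ ⟨_, hg, rfl⟩
    convert mul_mem ha (inv_mem hb) using 1
    rw [eq_mul_inv_of_mul_eq e1, eq_mul_inv_of_mul_eq e2, eq_mul_inv_of_mul_eq e.symm]
    group)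
  have c7 : R.Normal := normalizer_eq_top_iff.1 (eq_top_iff.2 fun g _ => by
    obtain ⟨n, a, b⟩ := frattini_argument a1 a2 a3 (K := ⊤) le_normalizer_of_normal (mem_top g)
    simpa using mul_mem (inv_mem (c6 a)) b)
  have c8 : (center R).map R.subtype = R := by
    obtain ⟨k, hk⟩ := (a2.to_subgroup (center R)).exists_card_eq
    have : Nontrivial R := Finite.one_lt_card_iff_nontrivial.1 (by omega)
    have := a2.center_nontrivial
    have h8 := card_modEq_card_inf_centralizer (T := (center R).map R.subtype) hP le_normalizer_of_normal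
    rw [centralizer_zpowers, c3 _ (map_subtype_le _), card_bot] at h8
    refine eq_of_le_of_card_ge (map_subtype_le _) (c2.trans (hx _ (card_dvd_of_le
      ((map_subtype_le _).trans a1)) ?_ (Eq.trans h8 (Nat.mod_eq_of_lt hp.one_lt))).symm).le
    rw [card_map_of_injective (subtype_injective _), hk]
    exact hr.isPrimePow.pow fun e => (Finite.one_lt_card (α := center R)).ne' (by simp [hk, e])
  obtain ⟨d, h8, h9⟩ := h3
  refine (h2 ?_).elim
  rw [← R.index_mul_card, c2]
  refine Nat.mul_dvd_mul_right (h9.trans (dvd_index_of_comm (fun a ha b hb => ?_) h8)) _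
  rw [← c8, map_center_subtype] at hb
  exact mem_centralizer_iff.1 hb.2 a ha

theorem exists_qs (hp : p.Prime) (hr : r.Prime) (h0 : ¬ p * p ∣ Nat.card G) (h4 : ∃ d ∈ cd G, p ∣ d)
    (hx : ∀ d, d ∣ Nat.card G → IsPrimePow d → d % p = 1 → d = N) (h1 : r ∣ N)
    (h2 : ¬ r * N ∣ Nat.card G) (h3 : ∃ d ∈ cd G, r ∣ d) : ∃ K : Subgroup G, K.Normal ∧
      IsQuasisimple K ∧ p ∣ (center K).index ∧ ∀ H : Subgroup G, (∀ y, orderOf y = p → y ∈ H) → K ≤ H := by
  have := Fact.mk hp
  obtain ⟨d, h5, h6⟩ := h4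
  obtain ⟨K, hK⟩ : ∃ K, K = closure {g : G | orderOf g = p} := ⟨_, rfl⟩
  have hn : K.Normal := hK ▸ ⟨fun x hx g => by
    refine closure_induction (fun x hx => subset_closure ?_) (by simp) (fun x y _ _ a b => ?_)
      (fun x _ a => ?_) hx
    · exact (orderOf_eq_of_isConj (isConj_iff.2 ⟨g, rfl⟩)).symm.trans hx
    · simpa [mul_assoc] using mul_mem a b
    · simpa [mul_assoc] using inv_mem a⟩
  have a1 : ∀ H : Subgroup G, (∀ y, orderOf y = p → y ∈ H) → K ≤ H := fun H h => hK ▸ (closure_le _).2 h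
  have a2 : p ∣ Nat.card K := by
    obtain ⟨x, hx⟩ := exists_prime_orderOf_dvd_card' (G := G) p (h6.trans (dvd_card_of_mem_cd h5))
    exact hx ▸ orderOf_dvd_natCard _ (hK ▸ subset_closure hx)
  have a3 : ∀ M : Subgroup G, M ≤ K → K ≤ normalizer (M : Set G) → p ∣ Nat.card M → M = K :=
    fun M a b c => le_antisymm a (a1 _ fun y hy => Mathieu.mem_of_pow_eq_one a
      (fun h hh n => (mem_normalizer_iff.1 (b hh) n).1) hp c
      (fun e => h0 (e.trans (card_subgroup_dvd_card K))) (hK ▸ subset_closure hy)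
      (hy ▸ pow_orderOf_eq_one y))
  have a4 : ∀ M : Subgroup G, M ≤ K → K ≤ normalizer (M : Set G) → M = K ∨ M ≤ centralizer (K : Set G) :=
    fun M a b => (em _).imp (a3 M a b) fun c => le_centralizer_iff.1 <| (a1 _ fun y hy => cent_of_cd hp hr
      (Core.not_dvd_card_pPrimeCore p G) (fun d hd => hx d (hd.trans (card_subgroup_dvd_card _))) h1 h2 h3
      hy).trans (centralizer_le ((Core.le_pPrimeCoreOf a b (Core.coprime_iff_not_dvd.2 c)).trans
        (Core.pPrimeCoreOf_le_pPrimeCore K)))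
  have a5 : ∀ M : Subgroup G, M.Normal → M ≤ centralizer (M : Set G) → ¬ p ∣ Nat.card M := fun M _ a b =>
    h0 (M.index_mul_card ▸ Nat.mul_dvd_mul (h6.trans (dvd_index_of_comm
      (fun x hx y hy => mem_centralizer_iff.1 (a hy) x hx) h5)) b)
  have a6 : ¬ p ∣ Nat.card (center K) := by
    rw [← card_map_of_injective (subtype_injective K)]
    exact a5 _ inferInstance (map_center_subtype K ▸ inf_le_right.trans (centralizer_le inf_le_left))
  have a7 : p ∣ (center K).index := (hp.dvd_mul.1 ((center K).index_mul_card ▸ a2)).resolve_right a6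
  refine ⟨K, hn, qs_of_normal (fun e => hp.one_lt.ne' (by simpa [e] using a2)) ((a4 _
    (commutator_le_left _ _) le_normalizer_of_normal).resolve_right fun e => ?_) a4, a7, a1⟩
  obtain ⟨x, hx, h7⟩ := exists_mem_orderOf_eq_prime hp a2
  have h8 := a3 (zpowers x ⊔ K ⊓ centralizer K) (sup_le (zpowers_le.2 hx) inf_le_left)
    (le_normalizer_iff_commutator_le_right.2 (((commutator_mono le_rfl (sup_le (zpowers_le.2 hx)
      inf_le_left)).trans (le_inf (commutator_le_left _ _) e)).trans le_sup_right))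
    (h7 ▸ orderOf_dvd_natCard _ (mem_sup_left (mem_zpowers x)))
  refine a5 K hn (h8.ge.trans (sup_le (zpowers_le.2 ?_) inf_le_right)) a2
  exact mem_centralizer_iff.2 fun g hg => mem_centralizer_singleton_iff.1 ((h8.ge.trans (sup_le
    (zpowers_le.2 (mem_centralizer_singleton_iff.2 rfl))
    (inf_le_right.trans (centralizer_le (Set.singleton_subset_iff.2 hx))))) hg)

end Cfsg.Lib.MO
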