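import Cfsg.Agent.Lib.MO.S12

/-!
# The sieve for the order 443520
-/

set_option autoImplicit false
set_option maxRecDepth 100000

namespace Cfsg.Lib.MO.T22

open Cfsg.Lib.Small

def L11 : List BD := cand 700 443520 11 (5 < ·) fun _ => true
def L5 : List BD := cand 700 443520 5 ok11 fun c => c % 11 != 0
def L7 : List BD := cand 700 443520 7 ok11 fun c => c % 11 != 0
def A : List BD :=
  [(11, 5, 1, 6, [56, -21, -21, -21]), (11, 5, 1, -16, [45, -10, -10, -10]), (11, 5, 1, -16, [210,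
  -120, -120, 45]), (11, 5, 1, -16, [-384, 210, 210, -21]), (11, 5, 1, -60, [45, 12, 12, -10]),
  (11, 5, 1, -60, [45, 45, -21, -10]), (11, 5, 1, -60, [56, 45, -21, -21]), (11, 5, 1, -60, [56,
  45, -32, -10]), (11, 5, 1, -60, [56, 56, -32, -21]), (11, 5, 1, -60, [144, -120, 45, -10]), (11,
  5, 1, 72, [-120, 45, 12, -10]), (11, 5, 1, 105, [-32, -32, -21, -21]), (11, 5, 1, 105, [-120,
  12, 12, -10]), (11, 5, 1, 105, [-120, 45, -21, -10]), (11, 5, 1, 105, [-120, 56, -21, -21]),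
  (11, 5, 1, 105, [-120, 56, -32, -10]), (11, 5, 1, 105, [144, -120, -120, -10]), (11, 5, 1, 105,
  [-252, 210, -120, 56]), (11, 5, 1, 105, [-384, 320, -21, -21]), (11, 5, 1, -126, [45, 45, 45,
  -10]), (11, 5, 1, -126, [56, 45, 45, -21]), (11, 5, 1, -126, [144, -120, 56, 45]), (11, 5, 1,
  -126, [210, -32, -32, -21]), (11, 5, 1, -126, [210, -120, 45, -10]), (11, 5, 1, -126, [210,
  -120, 56, -21]), (11, 5, 1, -126, [320, -120, -120, 45]), (11, 5, 1, -126, [-384, 320, 210,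
  -21]), (11, 5, 1, -192, [210, -120, 56, 45]), (11, 5, 1, -280, [210, 45, 45, -21]), (11, 5, 1,
  -280, [210, 144, -120, 45]), (11, 5, 1, -280, [210, 210, -120, -21]), (11, 5, 1, 336, [-252,
  -32, -32, -21]), (11, 5, 1, 336, [-252, -120, 56, -21])]
def P5 : List (BD × BD) :=
  [((5, 2, 12, -22, [21]), (11, 5, 1, -126, [210, -120, 56, -21])), ((5, 2, 12, -22, [21]), (11,
  5, 1, 6, [56, -21, -21, -21])), ((5, 2, 12, -22, [21]), (11, 5, 1, 105, [-384, 320, -21, -21])),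
  ((5, 2, 12, -22, [21]), (11, 5, 1, 105, [-120, 56, -21, -21])), ((5, 2, 12, -22, [21]), (11, 5,
  1, 105, [-32, -32, -21, -21])), ((5, 2, 192, -22, [21]), (11, 5, 1, -126, [210, -120, 56,
  -21])), ((5, 2, 192, -22, [21]), (11, 5, 1, 6, [56, -21, -21, -21])), ((5, 2, 192, -22, [21]),
  (11, 5, 1, 105, [-384, 320, -21, -21])), ((5, 2, 192, -22, [21]), (11, 5, 1, 105, [-120, 56,
  -21, -21])), ((5, 2, 192, -22, [21]), (11, 5, 1, 105, [-32, -32, -21, -21])), ((5, 4, 16, -154,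
  [66, 66, 21]), (11, 5, 1, -126, [210, -120, 56, -21])), ((5, 4, 16, -154, [66, 66, 21]), (11, 5,
  1, 6, [56, -21, -21, -21])), ((5, 4, 16, -154, [66, 66, 21]), (11, 5, 1, 105, [-384, 320, -21,
  -21])), ((5, 4, 16, -154, [66, 66, 21]), (11, 5, 1, 105, [-120, 56, -21, -21])), ((5, 4, 16,
  -154, [66, 66, 21]), (11, 5, 1, 105, [-32, -32, -21, -21])), ((5, 4, 16, -154, [126, 126, -99]),
  (11, 5, 1, -126, [-384, 320, 210, -21])), ((5, 4, 16, -154, [126, 126, -99]), (11, 5, 1, -126,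
  [210, -120, 56, -21])), ((5, 4, 16, -154, [126, 126, -99]), (11, 5, 1, -126, [210, -32, -32,
  -21])), ((5, 4, 16, -154, [231, -99, 21]), (11, 5, 1, 6, [56, -21, -21, -21])), ((5, 4, 16,
  -154, [231, -99, 21]), (11, 5, 1, 105, [-384, 320, -21, -21])), ((5, 4, 16, -154, [231, -99,
  21]), (11, 5, 1, 105, [-120, 56, -21, -21])), ((5, 4, 16, -154, [231, -99, 21]), (11, 5, 1, 105,
  [-32, -32, -21, -21]))]
def P7 : List (BD × BD) :=
  [((7, 3, 8, -66, [120, -55]), (11, 5, 1, -280, [210, 210, -120, -21])), ((7, 3, 8, -66, [120,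
  -55]), (11, 5, 1, -126, [144, -120, 56, 45])), ((7, 3, 8, -66, [120, -55]), (11, 5, 1, -126,
  [210, -120, 45, -10])), ((7, 3, 8, -66, [120, -55]), (11, 5, 1, -126, [320, -120, -120, 45])),
  ((7, 3, 8, -66, [120, -55]), (11, 5, 1, -60, [144, -120, 45, -10])), ((7, 3, 8, -66, [120,
  -55]), (11, 5, 1, 72, [-120, 45, 12, -10])), ((7, 3, 8, -66, [120, -55]), (11, 5, 1, 105, [-120,
  12, 12, -10])), ((7, 3, 8, -66, [120, -55]), (11, 5, 1, 105, [-120, 45, -21, -10])), ((7, 6, 4,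
  -440, [330, 120, 99, -55, -55]), (11, 5, 1, -126, [144, -120, 56, 45])), ((7, 6, 4, -440, [330,
  120, 99, -55, -55]), (11, 5, 1, 105, [-120, 12, 12, -10])), ((7, 6, 4, -132, [-132, 120, 99, 99,
  -55]), (11, 5, 1, -280, [210, 210, -120, -21])), ((7, 6, 4, -132, [-132, 120, 99, 99, -55]),
  (11, 5, 1, 105, [-120, 12, 12, -10])), ((7, 6, 4, -132, [-132, 120, 99, 99, -55]), (11, 5, 1,
  105, [-120, 45, -21, -10])), ((7, 6, 4, -55, [120, 99, -55, -55, -55]), (11, 5, 1, -126, [144,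
  -120, 56, 45])), ((7, 6, 4, -55, [120, 99, -55, -55, -55]), (11, 5, 1, -126, [210, -120, 45,
  -10])), ((7, 6, 4, -55, [120, 99, -55, -55, -55]), (11, 5, 1, -126, [320, -120, -120, 45])),
  ((7, 6, 4, -55, [120, 99, -55, -55, -55]), (11, 5, 1, 105, [-120, 12, 12, -10])), ((7, 6, 4,
  -132, [176, -132, 120, -55, 22]), (11, 5, 1, -280, [210, 210, -120, -21])), ((7, 6, 4, -132,
  [176, -132, 120, -55, 22]), (11, 5, 1, 105, [-120, 12, 12, -10])), ((7, 6, 4, -132, [176, -132,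
  120, -55, 22]), (11, 5, 1, 105, [-120, 45, -21, -10]))]
def X11 : BD := (11, 5, 1, -280, [210, 45, 45, -21])
def X5 : BD := (5, 4, 1, -154, [231, -99, 21])
def X7 : BD := (7, 3, 1, -45, [99, -55])
def Y11 : BD := (11, 5, 1, 105, [-120, 56, -21, -21])
def Y5 : BD := (5, 4, 16, -154, [66, 66, 21])
def Y7 : BD := (7, 3, 1, -66, [120, -55])
def U0 : List DV :=
  [(280, -8), (280, -8), (231, 7), (210, 2), (154, 10), (99, 3), (55, 7), (45, -3), (45, -3), (21, 5)]

def fp (P : List (BD × BD)) (_ : ℕ) (s : St) : Bool := P.any fun a => s.ch == [a.2, a.1]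

def pr (P : List (BD × BD)) (L ch : List BD) : List BD :=
  L.filter fun X => X.2.2.1 % 2 != 0 || P.any fun a => ch.getLast? == some a.2 && X == a.1

theorem r0 : ∀ X ∈ L11, X.2.2.1 % 2 = 0 ∨ X.2.1 = 5 ∧ X.2.2.1 = 1 := by decide +kernel

theorem r1 : run 700 443520 11 (· % 11 != 0) (fun _ _ => false)
    [fun _ => L11.filter (·.2.2.1 % 2 == 0)] = true := by decide +kernel

theorem r2 : run 700 443520 0 (· % 2 != 0) (fun _ s => A.any fun a => s.ch == [a])
    [fun _ => L11.filter (·.2.2.1 == 1)] = true := by decide +kernel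

theorem r3 : run 700 443520 5 (fun k => k % 5 != 0 && k % 11 == 0) (fp P5)
    [fun _ => L5.filter (·.2.2.1 % 2 == 0), fun _ => A] = true := by decide +kernel

theorem r6 : run 700 443520 5 (· % 5 != 0) (fun _ _ => false)
    [fun _ => [Y5], fun _ => [Y11], fun _ => [Y7]] = true := by decide +kernel

theorem r7 : run 700 443520 0 (fun _ => true) (fun k s => k == 1155 && tab [5, 7, 11] U0 s)
    [fun _ => [X11], fun _ => [X5], fun _ => [X7]] = true := by decide +kernel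

end Cfsg.Lib.MO.T22
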